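import Cfsg.Agent.Lib.Chevalley.InvolCert.E7.Table

/-! Nodes 900 to 1000 of the certificate of type E7. -/

set_option autoImplicit false

namespace Cfsg.Agent.Chevalley.InvolCert.E7

theorem range9_ok : rangeChk sys reps table 900 100 = true := by decide +kernel

end Cfsg.Agent.Chevalley.InvolCert.E7
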