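import Cfsg.Agent.Lib.Chevalley.InvolCert.E7.Check0
import Cfsg.Agent.Lib.Chevalley.InvolCert.E7.Check1
import Cfsg.Agent.Lib.Chevalley.InvolCert.E7.Check2
import Cfsg.Agent.Lib.Chevalley.InvolCert.E7.Check3
import Cfsg.Agent.Lib.Chevalley.InvolCert.E7.Check4
import Cfsg.Agent.Lib.Chevalley.InvolCert.E7.Check5
import Cfsg.Agent.Lib.Chevalley.InvolCert.E7.Check6
import Cfsg.Agent.Lib.Chevalley.InvolCert.E7.Check7
import Cfsg.Agent.Lib.Chevalley.InvolCert.E7.Check8
import Cfsg.Agent.Lib.Chevalley.InvolCert.E7.Check9
import Cfsg.Agent.Lib.Chevalley.InvolCert.E7.Check10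
import Cfsg.Agent.Lib.Chevalley.InvolCert.E7.Check11

/-! Every node of the certificate of type E7 is correct. -/

set_option autoImplicit false

namespace Cfsg.Agent.Chevalley.InvolCert.E7

theorem table_ok : ∀ i < 1102, nodeChk sys reps table i = true := fun i hi =>
  if h : i < 100 then rangeChk_spec range0_ok (by omega) (by omega) else
  if h : i < 200 then rangeChk_spec range1_ok (by omega) (by omega) else
  if h : i < 300 then rangeChk_spec range2_ok (by omega) (by omega) else
  if h : i < 400 then rangeChk_spec range3_ok (by omega) (by omega) else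
  if h : i < 500 then rangeChk_spec range4_ok (by omega) (by omega) else
  if h : i < 600 then rangeChk_spec range5_ok (by omega) (by omega) else
  if h : i < 700 then rangeChk_spec range6_ok (by omega) (by omega) else
  if h : i < 800 then rangeChk_spec range7_ok (by omega) (by omega) else
  if h : i < 900 then rangeChk_spec range8_ok (by omega) (by omega) else
  if h : i < 1000 then rangeChk_spec range9_ok (by omega) (by omega) else
  if h : i < 1100 then rangeChk_spec range10_ok (by omega) (by omega) else
  rangeChk_spec range11_ok (by omega) (by omega)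

theorem top_st : (table.get 1101).st = 56713727820156410577229101238628035242 := by decide +kernel

end Cfsg.Agent.Chevalley.InvolCert.E7
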