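import Cfsg.Agent.Lib.Chevalley.InvolCert.Chain
import Cfsg.Agent.Lib.Chevalley.Types.E7

/-! The commutator table of type E7 and the products linking the orthogonal sets. -/

set_option autoImplicit false
set_option maxHeartbeats 2000000
set_option maxRecDepth 100000

namespace Cfsg.Agent.Chevalley.InvolCert.E7

open Cfsg.Lie Cfsg.Agent.Chevalley

/-- The table. -/
def sys : Sys where
  D := chevE7
  base := 63
  N := 63
  rk := 7
  nr := 126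
  car := [[0,0,0,0,0,0,0,0,0,0,-1,-1,-1,-1,-1,0,0,0,0,0,-1,-1,-1,-1,-1,-1,-1,-1,-1,-1,2,1,1,1,1,1,1,1,1,1,1,1,1,1,1,1,0,0,0,0,0,0,0,0,0,0,0,0,0,0,0,-1,1],[0,0,0,0,0,0,-1,-1,-1,-1,0,-1,-1,-1,-1,2,1,1,1,1,1,1,1,1,0,0,0,0,0,0,0,0,-1,-1,-1,-1,1,1,1,1,0,0,0,0,0,0,0,0,0,0,0,0,-1,-1,-1,-1,1,1,1,1,0,0,0],[0,0,0,0,0,0,-1,-1,-1,-1,2,1,1,1,1,0,-1,-1,-1,-1,1,1,1,1,0,0,0,0,0,0,-1,1,0,0,0,0,0,0,0,0,-1,-1,-1,-1,-1,-1,1,1,1,1,1,1,0,0,0,0,0,0,0,0,-1,1,0],[0,0,0,-1,-1,-1,2,1,1,1,-1,1,0,0,0,-1,1,0,0,0,0,-1,-1,-1,1,1,1,0,0,0,0,-1,1,0,0,0,0,-1,-1,-1,1,1,1,0,0,0,0,0,0,-1,-1,-1,1,1,1,0,0,0,0,-1,1,0,0],[0,-1,-1,2,1,1,-1,1,0,0,0,-1,1,0,0,0,-1,1,0,0,-1,1,0,0,0,-1,-1,1,1,0,0,0,-1,1,0,0,-1,1,0,0,0,-1,-1,1,1,0,0,-1,-1,1,1,0,0,0,-1,1,0,0,-1,1,0,0,0],[-1,2,1,-1,1,0,0,-1,1,0,0,0,-1,1,0,0,0,-1,1,0,0,-1,1,0,-1,1,0,0,-1,1,0,0,0,-1,1,0,0,-1,1,0,-1,1,0,0,-1,1,-1,1,0,0,-1,1,0,-1,1,0,0,-1,1,0,0,0,0],[2,-1,1,0,-1,1,0,0,-1,1,0,0,0,-1,1,0,0,0,-1,1,0,0,-1,1,0,-1,1,-1,1,0,0,0,0,0,-1,1,0,0,-1,1,0,-1,1,-1,1,0,0,-1,1,-1,1,0,-1,1,0,0,-1,1,0,0,0,0,0]]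
  ref := [[1,0,2,3,4,5,6,7,8,9,10,11,12,13,14,15,16,33,34,35,36,37,38,39,40,41,42,48,49,50,51,52,93,17,18,19,20,21,22,23,24,25,26,43,44,45,46,47,27,28,29,30,31,53,54,55,56,57,58,59,60,61,62,63,64,65,66,67,68,69,70,71,72,94,95,96,97,98,78,79,80,81,82,99,100,101,102,103,104,105,106,107,108,32,73,74,75,76,77,83,84,85,86,87,88,89,90,91,92,109,110,111,112,113,114,115,116,117,118,119,120,121,122,123,125,124],[0,1,2,7,8,9,10,3,4,5,6,11,12,13,14,15,16,17,18,19,20,21,22,27,28,29,30,23,24,25,26,31,32,33,34,35,36,37,38,48,49,50,51,53,54,55,56,78,39,40,41,42,52,43,44,45,46,57,58,59,60,61,62,63,64,65,66,67,68,79,80,81,82,73,83,84,85,86,47,69,70,71,72,74,75,76,77,87,88,89,90,91,92,93,94,99,100,101,102,95,96,97,98,103,104,105,106,107,108,109,110,111,112,113,114,119,120,121,122,115,116,117,118,123,124,125],[0,2,1,3,4,5,6,7,8,9,10,17,18,19,20,21,22,11,12,13,14,15,16,23,24,25,26,2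7,28,29,30,32,31,33,34,35,36,37,38,43,44,45,46,39,40,41,42,47,53,54,55,56,73,48,49,50,51,57,58,59,60,61,62,63,64,65,66,67,68,74,75,76,77,52,69,70,71,72,78,83,84,85,86,79,80,81,82,87,88,89,90,91,92,94,93,95,96,97,98,99,100,101,102,109,110,111,112,113,114,103,104,105,106,107,108,115,116,117,118,119,120,121,122,124,123,125],[0,1,3,2,4,5,6,7,11,12,13,8,9,10,14,15,16,17,18,19,23,24,25,20,21,22,26,27,28,29,31,30,32,33,34,35,39,40,41,36,37,38,42,43,44,45,47,46,48,49,50,52,51,57,58,59,69,53,54,55,60,61,62,63,64,65,70,71,72,56,66,67,68,74,73,75,76,77,79,78,80,81,82,83,87,88,89,84,85,86,90,91,92,93,95,94,96,97,98,99,103,104,105,100,101,102,106,107,108,109,110,111,115,116,117,112,113,114,118,119,120,121,123,122,124,125],[0,1,2,4,3,5,6,8,7,9,10,11,14,15,12,13,16,17,20,21,18,19,22,23,24,26,25,27,28,30,29,31,32,33,36,37,34,35,38,39,40,42,41,43,44,46,45,47,48,49,51,50,52,53,54,5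6,55,60,61,66,57,58,62,63,67,68,59,64,65,70,69,71,72,73,75,74,76,77,78,80,79,81,82,84,83,85,86,87,90,91,88,89,92,93,94,96,95,97,98,100,99,101,102,103,106,107,104,105,108,109,112,113,110,111,114,115,116,118,117,119,120,122,121,123,124,125],[0,1,2,3,5,4,6,7,9,8,10,12,11,13,14,16,15,18,17,19,20,22,21,23,25,24,26,27,29,28,30,31,32,34,33,35,36,38,37,39,41,40,42,43,45,44,46,47,48,50,49,51,52,53,55,54,56,57,59,58,62,64,60,65,61,63,67,66,68,69,71,70,72,73,74,76,75,77,78,79,81,80,82,83,85,84,86,88,87,89,90,92,91,93,94,95,97,96,98,99,101,100,102,104,103,105,106,108,107,110,109,111,112,114,113,115,117,116,118,119,121,120,122,123,124,125],[0,1,2,3,4,6,5,7,8,10,9,11,13,12,15,14,16,17,19,18,21,20,22,24,23,25,26,28,27,29,30,31,32,33,35,34,37,36,38,40,39,41,42,44,43,45,46,47,49,48,50,51,52,54,53,55,56,58,57,59,61,60,63,62,65,64,66,68,67,69,70,72,71,73,74,75,77,76,78,79,80,82,81,83,84,86,85,87,89,88,91,90,92,93,94,95,96,98,97,99,100,102,101,103,105,104,107,106,108,109,111,110,113,112,114,116,115,117,118,120,119,121,122,123,124,125]]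
  mask := 1851047263618095837416999722943966233909104569493528428315870590262131971358368195321843356811770273424527942072733439867937762576092775349093636635159592563105811514006379355330101830041196806846260875244828505890894652067148113699540038288829842410990286567260842159058630152796341729276292668286943583482312765597205164135302822876339287838877368571249818585590386130195187265319614889272872394013473997302779828594050439024538570254976282760837110961845483665432628994386721081711031941553553461889133226895798287256632952608567280901487183315917564775638689939072041557719900810311144953288006196476019872764170986709061639604768439747693954184989786831062079266202586563421473396406018277202521259575157579532833376258488023702083333991170332936307324650539402565326378267135141200381691415282071881445556534030090517559898116561910336891575890509693354112196882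
  tbl := [
    [[],[(2,1,1)],[],[],[(5,1,1)],[],[],[],[(9,1,1)],[],[],[],[],[(14,1,1)],[],[],[],[],[(19,1,1)],[],[],[],[(23,1,1)],[],[],[(26,1,1)],[],[(28,1,1)],[],[],[],[],[],[],[(35,1,1)],[],[],[],[(39,1,1)],[],[],[(42,1,1)],[],[(44,1,1)],[],[],[],[(48,1,1)],[],[(50,1,1)],[],[],[(53,1,1)],[],[],[],[(57,1,1)],[],[],[],[],[],[]],
    [[],[],[],[(4,1,1)],[],[],[],[(8,1,1)],[],[],[],[],[(13,1,1)],[],[],[],[],[(18,1,1)],[],[],[],[(22,1,1)],[],[],[(25,1,1)],[],[],[],[(29,1,1)],[],[],[],[],[(34,1,1)],[],[],[],[(38,1,1)],[],[],[(41,1,1)],[],[],[],[(45,1,1)],[],[(47,1,1)],[],[],[],[(51,1,1)],[],[],[(54,1,1)],[],[],[],[(58,1,1)],[],[],[],[],[]],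
    [[],[],[],[(5,1,1)],[],[],[],[(9,1,1)],[],[],[],[],[(14,1,1)],[],[],[],[],[(19,1,1)],[],[],[],[(23,1,1)],[],[],[(26,1,1)],[],[],[(29,1,1)],[],[],[],[],[],[(35,1,1)],[],[],[],[(39,1,1)],[],[],[(42,1,1)],[],[],[(45,1,1)],[],[],[(48,1,1)],[],[],[(51,1,1)],[],[],[(54,1,1)],[],[],[],[(58,1,1)],[],[],[],[],[],[]],
    [[],[],[],[],[],[],[(7,1,1)],[],[],[],[],[(12,1,1)],[],[],[],[],[(17,1,1)],[],[],[],[(21,1,1)],[],[],[],[],[(27,1,1)],[(28,1,1)],[],[],[],[],[],[(33,1,1)],[],[],[],[(37,1,1)],[],[],[],[],[(43,1,1)],[(44,1,1)],[],[],[],[],[(49,1,1)],[(50,1,1)],[],[],[],[],[],[(55,1,1)],[],[],[],[(59,1,1)],[],[],[],[]],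
    [[],[],[],[],[],[],[(8,1,1)],[],[],[],[],[(13,1,1)],[],[],[],[],[(18,1,1)],[],[],[],[(22,1,1)],[],[],[],[(27,1,1)],[],[(29,1,1)],[],[],[],[],[],[(34,1,1)],[],[],[],[(38,1,1)],[],[],[],[(43,1,1)],[],[(45,1,1)],[],[],[],[(49,1,1)],[],[(51,1,1)],[],[],[],[],[(55,1,1)],[],[],[],[(59,1,1)],[],[],[],[],[]],
    [[],[],[],[],[],[],[(9,1,1)],[],[],[],[],[(14,1,1)],[],[],[],[],[(19,1,1)],[],[],[],[(23,1,1)],[],[],[],[(28,1,1)],[(29,1,1)],[],[],[],[],[],[],[(35,1,1)],[],[],[],[(39,1,1)],[],[],[],[(44,1,1)],[(45,1,1)],[],[],[],[],[(50,1,1)],[(51,1,1)],[],[],[],[],[(55,1,1)],[],[],[],[(59,1,1)],[],[],[],[],[],[]],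
    [[],[],[],[],[],[],[],[],[],[],[(11,1,1)],[],[],[],[],[(16,1,1)],[],[],[],[],[],[(24,1,1)],[(25,1,1)],[(26,1,1)],[],[],[],[],[],[],[],[(32,1,1)],[],[],[],[],[],[(40,1,1)],[(41,1,1)],[(42,1,1)],[],[],[],[],[],[],[],[],[],[(52,1,1)],[(53,1,1)],[(54,1,1)],[],[],[],[],[],[],[],[(60,1,1)],[],[],[]],
    [[],[],[],[],[],[],[],[],[],[],[(12,1,1)],[],[],[],[],[(17,1,1)],[],[],[],[],[(24,1,1)],[],[(27,1,1)],[(28,1,1)],[],[],[],[],[],[],[],[(33,1,1)],[],[],[],[],[(40,1,1)],[],[(43,1,1)],[(44,1,1)],[],[],[],[],[],[],[],[(52,1,1)],[(53,1,1)],[],[],[(55,1,1)],[],[],[],[],[],[],[(60,1,1)],[],[],[],[]],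
    [[],[],[],[],[],[],[],[],[],[],[(13,1,1)],[],[],[],[],[(18,1,1)],[],[],[],[],[(25,1,1)],[(27,1,1)],[],[(29,1,1)],[],[],[],[],[],[],[],[(34,1,1)],[],[],[],[],[(41,1,1)],[(43,1,1)],[],[(45,1,1)],[],[],[],[],[],[],[(52,1,1)],[],[(54,1,1)],[],[(55,1,1)],[],[],[],[],[],[],[(60,1,1)],[],[],[],[],[]],
    [[],[],[],[],[],[],[],[],[],[],[(14,1,1)],[],[],[],[],[(19,1,1)],[],[],[],[],[(26,1,1)],[(28,1,1)],[(29,1,1)],[],[],[],[],[],[],[],[],[(35,1,1)],[],[],[],[],[(42,1,1)],[(44,1,1)],[(45,1,1)],[],[],[],[],[],[],[],[(53,1,1)],[(54,1,1)],[],[(55,1,1)],[],[],[],[],[],[],[(60,1,1)],[],[],[],[],[],[]],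
    [[],[],[],[],[],[],[],[],[],[],[],[],[],[],[],[],[(20,1,1)],[(21,1,1)],[(22,1,1)],[(23,1,1)],[],[],[],[],[],[],[],[],[],[],[(31,1,1)],[],[],[],[],[],[],[],[],[],[(46,1,1)],[(47,1,1)],[(48,1,1)],[(49,1,1)],[(50,1,1)],[(51,1,1)],[],[],[],[],[],[],[],[],[],[],[],[],[],[],[(61,1,1)],[],[]],
    [[],[],[],[],[],[],[],[],[],[],[],[],[],[],[],[(20,1,1)],[],[(24,1,1)],[(25,1,1)],[(26,1,1)],[],[],[],[],[],[],[],[],[],[],[(32,1,1)],[],[],[],[],[],[],[(46,1,1)],[(47,1,1)],[(48,1,1)],[],[],[],[(52,1,1)],[(53,1,1)],[(54,1,1)],[],[],[],[],[],[],[],[],[],[],[],[],[],[(61,1,1)],[],[],[]],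
    [[],[],[],[],[],[],[],[],[],[],[],[],[],[],[],[(21,1,1)],[(24,1,1)],[],[(27,1,1)],[(28,1,1)],[],[],[],[],[],[],[],[],[],[],[(33,1,1)],[],[],[],[],[],[(46,1,1)],[],[(49,1,1)],[(50,1,1)],[],[(52,1,1)],[(53,1,1)],[],[],[(55,1,1)],[],[],[],[],[],[],[],[],[],[],[],[],[(61,1,1)],[],[],[],[]],
    [[],[],[],[],[],[],[],[],[],[],[],[],[],[],[],[(22,1,1)],[(25,1,1)],[(27,1,1)],[],[(29,1,1)],[],[],[],[],[],[],[],[],[],[],[(34,1,1)],[],[],[],[],[],[(47,1,1)],[(49,1,1)],[],[(51,1,1)],[(52,1,1)],[],[(54,1,1)],[],[(55,1,1)],[],[],[],[],[],[],[],[],[],[],[],[],[(61,1,1)],[],[],[],[],[]],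
    [[],[],[],[],[],[],[],[],[],[],[],[],[],[],[],[(23,1,1)],[(26,1,1)],[(28,1,1)],[(29,1,1)],[],[],[],[],[],[],[],[],[],[],[],[(35,1,1)],[],[],[],[],[],[(48,1,1)],[(50,1,1)],[(51,1,1)],[],[(53,1,1)],[(54,1,1)],[],[(55,1,1)],[],[],[],[],[],[],[],[],[],[],[],[],[(61,1,1)],[],[],[],[],[],[]],
    [[],[],[],[],[],[],[],[],[],[],[],[],[],[],[],[],[],[],[],[],[],[],[],[],[],[],[],[],[],[],[],[],[(36,1,1)],[(37,1,1)],[(38,1,1)],[(39,1,1)],[],[],[],[],[],[],[],[],[],[],[],[],[],[],[],[],[(56,1,1)],[(57,1,1)],[(58,1,1)],[(59,1,1)],[],[],[],[],[],[],[]],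
    [[],[],[],[],[],[],[],[],[],[],[],[],[],[],[],[],[],[],[],[],[],[],[],[],[],[],[],[],[],[],[],[(36,1,1)],[],[(40,1,1)],[(41,1,1)],[(42,1,1)],[],[],[],[],[],[],[],[],[],[],[],[],[],[(56,1,1)],[(57,1,1)],[(58,1,1)],[],[],[],[(60,1,1)],[],[],[],[],[],[],[]],
    [[],[],[],[],[],[],[],[],[],[],[],[],[],[],[],[],[],[],[],[],[],[],[],[],[],[],[],[],[],[],[],[(37,1,1)],[(40,1,1)],[],[(43,1,1)],[(44,1,1)],[],[],[],[],[],[],[],[],[],[],[],[(56,1,1)],[(57,1,1)],[],[],[(59,1,1)],[],[],[(60,1,1)],[],[],[],[],[],[],[],[]],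
    [[],[],[],[],[],[],[],[],[],[],[],[],[],[],[],[],[],[],[],[],[],[],[],[],[],[],[],[],[],[],[],[(38,1,1)],[(41,1,1)],[(43,1,1)],[],[(45,1,1)],[],[],[],[],[],[],[],[],[],[],[(56,1,1)],[],[(58,1,1)],[],[(59,1,1)],[],[],[(60,1,1)],[],[],[],[],[],[],[],[],[]],
    [[],[],[],[],[],[],[],[],[],[],[],[],[],[],[],[],[],[],[],[],[],[],[],[],[],[],[],[],[],[],[],[(39,1,1)],[(42,1,1)],[(44,1,1)],[(45,1,1)],[],[],[],[],[],[],[],[],[],[],[],[(57,1,1)],[(58,1,1)],[],[(59,1,1)],[],[],[(60,1,1)],[],[],[],[],[],[],[],[],[],[]],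
    [[],[],[],[],[],[],[],[],[],[],[],[],[],[],[],[],[],[],[],[],[],[],[],[],[],[],[],[],[],[],[(36,1,1)],[],[],[(46,1,1)],[(47,1,1)],[(48,1,1)],[],[],[],[],[],[],[],[(56,1,1)],[(57,1,1)],[(58,1,1)],[],[],[],[],[],[],[],[],[],[(61,1,1)],[],[],[],[],[],[],[]],
    [[],[],[],[],[],[],[],[],[],[],[],[],[],[],[],[],[],[],[],[],[],[],[],[],[],[],[],[],[],[],[(37,1,1)],[],[(46,1,1)],[],[(49,1,1)],[(50,1,1)],[],[],[],[],[],[(56,1,1)],[(57,1,1)],[],[],[(59,1,1)],[],[],[],[],[],[],[],[],[(61,1,1)],[],[],[],[],[],[],[],[]],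
    [[],[],[],[],[],[],[],[],[],[],[],[],[],[],[],[],[],[],[],[],[],[],[],[],[],[],[],[],[],[],[(38,1,1)],[],[(47,1,1)],[(49,1,1)],[],[(51,1,1)],[],[],[],[],[(56,1,1)],[],[(58,1,1)],[],[(59,1,1)],[],[],[],[],[],[],[],[],[(61,1,1)],[],[],[],[],[],[],[],[],[]],
    [[],[],[],[],[],[],[],[],[],[],[],[],[],[],[],[],[],[],[],[],[],[],[],[],[],[],[],[],[],[],[(39,1,1)],[],[(48,1,1)],[(50,1,1)],[(51,1,1)],[],[],[],[],[],[(57,1,1)],[(58,1,1)],[],[(59,1,1)],[],[],[],[],[],[],[],[],[(61,1,1)],[],[],[],[],[],[],[],[],[],[]],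
    [[],[],[],[],[],[],[],[],[],[],[],[],[],[],[],[],[],[],[],[],[],[],[],[],[],[],[],[],[],[],[(40,1,1)],[(46,1,1)],[],[],[(52,1,1)],[(53,1,1)],[],[],[(56,1,1)],[(57,1,1)],[],[],[],[],[],[(60,1,1)],[],[],[],[],[],[(61,1,1)],[],[],[],[],[],[],[],[],[],[],[]],
    [[],[],[],[],[],[],[],[],[],[],[],[],[],[],[],[],[],[],[],[],[],[],[],[],[],[],[],[],[],[],[(41,1,1)],[(47,1,1)],[],[(52,1,1)],[],[(54,1,1)],[],[(56,1,1)],[],[(58,1,1)],[],[],[],[],[(60,1,1)],[],[],[],[],[],[(61,1,1)],[],[],[],[],[],[],[],[],[],[],[],[]],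
    [[],[],[],[],[],[],[],[],[],[],[],[],[],[],[],[],[],[],[],[],[],[],[],[],[],[],[],[],[],[],[(42,1,1)],[(48,1,1)],[],[(53,1,1)],[(54,1,1)],[],[],[(57,1,1)],[(58,1,1)],[],[],[],[],[(60,1,1)],[],[],[],[],[],[(61,1,1)],[],[],[],[],[],[],[],[],[],[],[],[],[]],
    [[],[],[],[],[],[],[],[],[],[],[],[],[],[],[],[],[],[],[],[],[],[],[],[],[],[],[],[],[],[],[(43,1,1)],[(49,1,1)],[(52,1,1)],[],[],[(55,1,1)],[(56,1,1)],[],[],[(59,1,1)],[],[],[(60,1,1)],[],[],[],[],[],[(61,1,1)],[],[],[],[],[],[],[],[],[],[],[],[],[],[]],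
    [[],[],[],[],[],[],[],[],[],[],[],[],[],[],[],[],[],[],[],[],[],[],[],[],[],[],[],[],[],[],[(44,1,1)],[(50,1,1)],[(53,1,1)],[],[(55,1,1)],[],[(57,1,1)],[],[(59,1,1)],[],[],[(60,1,1)],[],[],[],[],[],[(61,1,1)],[],[],[],[],[],[],[],[],[],[],[],[],[],[],[]],
    [[],[],[],[],[],[],[],[],[],[],[],[],[],[],[],[],[],[],[],[],[],[],[],[],[],[],[],[],[],[],[(45,1,1)],[(51,1,1)],[(54,1,1)],[(55,1,1)],[],[],[(58,1,1)],[(59,1,1)],[],[],[(60,1,1)],[],[],[],[],[],[(61,1,1)],[],[],[],[],[],[],[],[],[],[],[],[],[],[],[],[]],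
    [[],[],[],[],[],[],[],[],[],[],[],[],[],[],[],[],[],[],[],[],[],[],[],[],[],[],[],[],[],[],[],[],[],[],[],[],[],[],[],[],[],[],[],[],[],[],[],[],[],[],[],[],[],[],[],[],[],[],[],[],[],[(62,1,1)],[]],
    [[],[],[],[],[],[],[],[],[],[],[],[],[],[],[],[],[],[],[],[],[],[],[],[],[],[],[],[],[],[],[],[],[],[],[],[],[],[],[],[],[],[],[],[],[],[],[],[],[],[],[],[],[],[],[],[],[],[],[],[],[(62,1,1)],[],[]],
    [[],[],[],[],[],[],[],[],[],[],[],[],[],[],[],[],[],[],[],[],[],[],[],[],[],[],[],[],[],[],[],[],[],[],[],[],[],[],[],[],[],[],[],[],[],[],[],[],[],[],[],[],[],[],[],[],[],[],[],[(62,1,1)],[],[],[]],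
    [[],[],[],[],[],[],[],[],[],[],[],[],[],[],[],[],[],[],[],[],[],[],[],[],[],[],[],[],[],[],[],[],[],[],[],[],[],[],[],[],[],[],[],[],[],[],[],[],[],[],[],[],[],[],[],[],[],[],[(62,1,1)],[],[],[],[]],
    [[],[],[],[],[],[],[],[],[],[],[],[],[],[],[],[],[],[],[],[],[],[],[],[],[],[],[],[],[],[],[],[],[],[],[],[],[],[],[],[],[],[],[],[],[],[],[],[],[],[],[],[],[],[],[],[],[],[(62,1,1)],[],[],[],[],[]],
    [[],[],[],[],[],[],[],[],[],[],[],[],[],[],[],[],[],[],[],[],[],[],[],[],[],[],[],[],[],[],[],[],[],[],[],[],[],[],[],[],[],[],[],[],[],[],[],[],[],[],[],[],[],[],[],[],[(62,1,1)],[],[],[],[],[],[]],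
    [[],[],[],[],[],[],[],[],[],[],[],[],[],[],[],[],[],[],[],[],[],[],[],[],[],[],[],[],[],[],[],[],[],[],[],[],[],[],[],[],[],[],[],[],[],[],[],[],[],[],[],[],[],[],[],[(62,1,1)],[],[],[],[],[],[],[]],
    [[],[],[],[],[],[],[],[],[],[],[],[],[],[],[],[],[],[],[],[],[],[],[],[],[],[],[],[],[],[],[],[],[],[],[],[],[],[],[],[],[],[],[],[],[],[],[],[],[],[],[],[],[],[],[(62,1,1)],[],[],[],[],[],[],[],[]],
    [[],[],[],[],[],[],[],[],[],[],[],[],[],[],[],[],[],[],[],[],[],[],[],[],[],[],[],[],[],[],[],[],[],[],[],[],[],[],[],[],[],[],[],[],[],[],[],[],[],[],[],[],[],[(62,1,1)],[],[],[],[],[],[],[],[],[]],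
    [[],[],[],[],[],[],[],[],[],[],[],[],[],[],[],[],[],[],[],[],[],[],[],[],[],[],[],[],[],[],[],[],[],[],[],[],[],[],[],[],[],[],[],[],[],[],[],[],[],[],[],[],[(62,1,1)],[],[],[],[],[],[],[],[],[],[]],
    [[],[],[],[],[],[],[],[],[],[],[],[],[],[],[],[],[],[],[],[],[],[],[],[],[],[],[],[],[],[],[],[],[],[],[],[],[],[],[],[],[],[],[],[],[],[],[],[],[],[],[],[(62,1,1)],[],[],[],[],[],[],[],[],[],[],[]],
    [[],[],[],[],[],[],[],[],[],[],[],[],[],[],[],[],[],[],[],[],[],[],[],[],[],[],[],[],[],[],[],[],[],[],[],[],[],[],[],[],[],[],[],[],[],[],[],[],[],[],[(62,1,1)],[],[],[],[],[],[],[],[],[],[],[],[]],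
    [[],[],[],[],[],[],[],[],[],[],[],[],[],[],[],[],[],[],[],[],[],[],[],[],[],[],[],[],[],[],[],[],[],[],[],[],[],[],[],[],[],[],[],[],[],[],[],[],[],[(62,1,1)],[],[],[],[],[],[],[],[],[],[],[],[],[]],
    [[],[],[],[],[],[],[],[],[],[],[],[],[],[],[],[],[],[],[],[],[],[],[],[],[],[],[],[],[],[],[],[],[],[],[],[],[],[],[],[],[],[],[],[],[],[],[],[],[(62,1,1)],[],[],[],[],[],[],[],[],[],[],[],[],[],[]],
    [[],[],[],[],[],[],[],[],[],[],[],[],[],[],[],[],[],[],[],[],[],[],[],[],[],[],[],[],[],[],[],[],[],[],[],[],[],[],[],[],[],[],[],[],[],[],[],[(62,1,1)],[],[],[],[],[],[],[],[],[],[],[],[],[],[],[]],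
    [[],[],[],[],[],[],[],[],[],[],[],[],[],[],[],[],[],[],[],[],[],[],[],[],[],[],[],[],[],[],[],[],[],[],[],[],[],[],[],[],[],[],[],[],[],[],[(62,1,1)],[],[],[],[],[],[],[],[],[],[],[],[],[],[],[],[]],
    [[],[],[],[],[],[],[],[],[],[],[],[],[],[],[],[],[],[],[],[],[],[],[],[],[],[],[],[],[],[],[],[],[],[],[],[],[],[],[],[],[],[],[],[],[],[],[],[],[],[],[],[],[],[],[],[],[],[],[],[],[],[],[]],
    [[],[],[],[],[],[],[],[],[],[],[],[],[],[],[],[],[],[],[],[],[],[],[],[],[],[],[],[],[],[],[],[],[],[],[],[],[],[],[],[],[],[],[],[],[],[],[],[],[],[],[],[],[],[],[],[],[],[],[],[],[],[],[]],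
    [[],[],[],[],[],[],[],[],[],[],[],[],[],[],[],[],[],[],[],[],[],[],[],[],[],[],[],[],[],[],[],[],[],[],[],[],[],[],[],[],[],[],[],[],[],[],[],[],[],[],[],[],[],[],[],[],[],[],[],[],[],[],[]],
    [[],[],[],[],[],[],[],[],[],[],[],[],[],[],[],[],[],[],[],[],[],[],[],[],[],[],[],[],[],[],[],[],[],[],[],[],[],[],[],[],[],[],[],[],[],[],[],[],[],[],[],[],[],[],[],[],[],[],[],[],[],[],[]],
    [[],[],[],[],[],[],[],[],[],[],[],[],[],[],[],[],[],[],[],[],[],[],[],[],[],[],[],[],[],[],[],[],[],[],[],[],[],[],[],[],[],[],[],[],[],[],[],[],[],[],[],[],[],[],[],[],[],[],[],[],[],[],[]],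
    [[],[],[],[],[],[],[],[],[],[],[],[],[],[],[],[],[],[],[],[],[],[],[],[],[],[],[],[],[],[],[],[],[],[],[],[],[],[],[],[],[],[],[],[],[],[],[],[],[],[],[],[],[],[],[],[],[],[],[],[],[],[],[]],
    [[],[],[],[],[],[],[],[],[],[],[],[],[],[],[],[],[],[],[],[],[],[],[],[],[],[],[],[],[],[],[],[],[],[],[],[],[],[],[],[],[],[],[],[],[],[],[],[],[],[],[],[],[],[],[],[],[],[],[],[],[],[],[]],
    [[],[],[],[],[],[],[],[],[],[],[],[],[],[],[],[],[],[],[],[],[],[],[],[],[],[],[],[],[],[],[],[],[],[],[],[],[],[],[],[],[],[],[],[],[],[],[],[],[],[],[],[],[],[],[],[],[],[],[],[],[],[],[]],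
    [[],[],[],[],[],[],[],[],[],[],[],[],[],[],[],[],[],[],[],[],[],[],[],[],[],[],[],[],[],[],[],[],[],[],[],[],[],[],[],[],[],[],[],[],[],[],[],[],[],[],[],[],[],[],[],[],[],[],[],[],[],[],[]],
    [[],[],[],[],[],[],[],[],[],[],[],[],[],[],[],[],[],[],[],[],[],[],[],[],[],[],[],[],[],[],[],[],[],[],[],[],[],[],[],[],[],[],[],[],[],[],[],[],[],[],[],[],[],[],[],[],[],[],[],[],[],[],[]],
    [[],[],[],[],[],[],[],[],[],[],[],[],[],[],[],[],[],[],[],[],[],[],[],[],[],[],[],[],[],[],[],[],[],[],[],[],[],[],[],[],[],[],[],[],[],[],[],[],[],[],[],[],[],[],[],[],[],[],[],[],[],[],[]],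
    [[],[],[],[],[],[],[],[],[],[],[],[],[],[],[],[],[],[],[],[],[],[],[],[],[],[],[],[],[],[],[],[],[],[],[],[],[],[],[],[],[],[],[],[],[],[],[],[],[],[],[],[],[],[],[],[],[],[],[],[],[],[],[]],
    [[],[],[],[],[],[],[],[],[],[],[],[],[],[],[],[],[],[],[],[],[],[],[],[],[],[],[],[],[],[],[],[],[],[],[],[],[],[],[],[],[],[],[],[],[],[],[],[],[],[],[],[],[],[],[],[],[],[],[],[],[],[],[]],
    [[],[],[],[],[],[],[],[],[],[],[],[],[],[],[],[],[],[],[],[],[],[],[],[],[],[],[],[],[],[],[],[],[],[],[],[],[],[],[],[],[],[],[],[],[],[],[],[],[],[],[],[],[],[],[],[],[],[],[],[],[],[],[]],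
    [[],[],[],[],[],[],[],[],[],[],[],[],[],[],[],[],[],[],[],[],[],[],[],[],[],[],[],[],[],[],[],[],[],[],[],[],[],[],[],[],[],[],[],[],[],[],[],[],[],[],[],[],[],[],[],[],[],[],[],[],[],[],[]],
    [[],[],[],[],[],[],[],[],[],[],[],[],[],[],[],[],[],[],[],[],[],[],[],[],[],[],[],[],[],[],[],[],[],[],[],[],[],[],[],[],[],[],[],[],[],[],[],[],[],[],[],[],[],[],[],[],[],[],[],[],[],[],[]],
    [[],[],[],[],[],[],[],[],[],[],[],[],[],[],[],[],[],[],[],[],[],[],[],[],[],[],[],[],[],[],[],[],[],[],[],[],[],[],[],[],[],[],[],[],[],[],[],[],[],[],[],[],[],[],[],[],[],[],[],[],[],[],[]]]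

theorem tbl_ok : sys.chkTbl = true := by decide +kernel

/-- The sets of the certificate. -/
def reps : List (List ℕ) := [[62], [29,62], [24,29,62], [15,24,29], [10,24,29,62], [15,24,29,62], [10,15,24,29,62], [3,10,15,24,29,62], [0,3,10,15,24,29,62]]

/-- The class representatives. -/
def classes : List (List ℕ) := [[62], [29,62], [24,29,62], [15,24,29], [15,24,29,62]]

/-- The products linking the sets to the classes. -/
def chains : List (List Step × ℕ) := [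
  ([], 0),
  ([], 1),
  ([], 2),
  ([], 3),
  ([.x 31 [10,24,29,46,51,61,62], .x 24 [10,24,29,46,51,62], .x 40 [10,24,29,51,60,61], .x 45 [10,24,29], .w [0,3,1,4,3,2,5,4,3,1,6,5,4,3,2,0] [24,29,62]], 2),
  ([], 4),
  ([.x 31 [10,15,24,29,46,51,61,62], .x 24 [10,15,24,29,46,51,62], .x 40 [10,15,24,29,51,60,61], .x 45 [10,15,24,29], .w [0,2,3,1,2,0,3,2,4,3,5,4,3,1,2,3,6,5,4,3,1,2,0,3] [15,24,29,62]], 4),
  ([.x 7 [3,10,12,15,17,24,29,62], .x 10 [3,10,12,15,17,21,24,29,62], .x 11 [3,10,15,17,20,21,29,62], .x 16 [3,10,15,29,62], .w [3,1,2,3] [10,15,24,29,62], .x 31 [10,15,24,29,46,51,61,62], .x 24 [10,15,24,29,46,51,62], .x 40 [10,15,24,29,51,60,61], .x 45 [10,15,24,29], .w [0,2,3,1,2,0,3,2,4,3,5,4,3,1,2,3,6,5,4,3,1,2,0,3] [15,24,29,62]], 4),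
  ([.x 2 [0,3,5,10,15,24,26,29,62], .x 3 [0,3,5,10,15,24,26,28,29,62], .x 4 [0,3,10,15,24,26,27,28,62], .x 25 [0,3,10,15,24,62], .w [5,4,3,1,2,3,4,5] [3,10,15,24,29,62], .x 7 [3,10,12,15,17,24,29,62], .x 10 [3,10,12,15,17,21,24,29,62], .x 11 [3,10,15,17,20,21,29,62], .x 16 [3,10,15,29,62], .w [3,1,2,3] [10,15,24,29,62], .x 31 [10,15,24,29,46,51,61,62], .x 24 [10,15,24,29,46,51,62], .x 40 [10,15,24,29,51,60,61], .x 45 [10,15,24,29], .w [0,2,3,1,2,0,3,2,4,3,5,4,3,1,2,3,6,5,4,3,1,2,0,3] [15,24,29,62]], 4)]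

theorem chains_ok : chainsChk sys reps classes chains = true := by decide +kernel

end Cfsg.Agent.Chevalley.InvolCert.E7
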