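import Cfsg.Agent.Lib.Chevalley.InvolCert.Rank
import Cfsg.Agent.Lib.Chevalley.InvolCert.E7.Sys

/-! The ranks of the displacements of the class representatives of type E7. -/

set_option autoImplicit false
set_option maxRecDepth 100000
set_option maxHeartbeats 2000000

namespace Cfsg.Agent.Chevalley.InvolCert.E7

theorem rank0_ok : rankChk Data.E7.tab.col 133 [125]
    [([0],[132],132),([0,7],[2,4,6],6),([8],[100],100),([9],[101],101),([10],[102],102),([11],[103],103),([12],[104],104),([13],[105],105),([14],[106],106),([15],[107],107),([16],[108],108),([17],[109],109),([18],[110],110),([19],[111],111),([20],[112],112),([21],[113],113),([22],[114],114),([23],[115],115),([24],[116],116),([25],[117],117),([26],[118],118),([27],[119],119),([28],[120],120),([29],[121],121),([30],[122],122),([31],[123],123),([32],[124],124),([33],[125],125),([34],[126],126),([35],[127],127),([36],[128],128),([37],[129],129),([38],[130],130),([39],[131],131)]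
    [[0],[],[],[],[],[],[],[0,1],[2],[3],[4],[5],[6],[7],[8],[9],[10],[11],[12],[13],[14],[15],[16],[17],[18],[19],[20],[21],[22],[23],[24],[25],[26],[27],[28],[29],[30],[31],[32],[33],[],[],[],[],[],[],[],[],[],[],[],[],[],[],[],[],[],[],[],[],[],[],[],[],[],[],[],[],[],[],[],[],[],[],[],[],[],[],[],[],[],[],[],[],[],[],[],[],[],[],[],[],[],[],[],[],[],[],[],[],[],[],[],[],[],[],[],[],[],[],[],[],[],[],[],[],[],[],[],[],[],[],[],[],[],[],[],[],[],[],[],[],[]] = true := by decide +kernel

theorem rank1_ok : rankChk Data.E7.tab.col 133 [92,125]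
    [([0,5],[132],132),([5],[99],99),([5,40],[1,2,6],6),([23],[115],115),([29],[121],121),([32],[124],124),([33],[125],125),([12],[104],104),([13],[105],105),([36],[128],128),([37],[129],129),([16],[108],108),([17],[109],109),([38],[130],130),([19],[111],111),([20],[112],112),([21],[113],113),([22],[114],114),([8,23],[23,100],100),([39],[131],131),([25],[117],117),([26],[118],118),([27],[119],119),([28],[120],120),([9,29],[29,101],101),([30],[122],122),([31],[123],123),([10,32],[32,102],102),([11,33],[33,103],103),([34],[126],126),([35],[127],127),([14,36],[36,106],106),([15,37],[37,107],107),([18,38],[38,110],110),([24,39],[39,116],116),([0,7,40],[1,4],4),([41],[71],71),([42],[72],72),([43],[74],74),([44],[75],75),([46],[78],78),([47],[79],79),([50],[83],83),([51],[84],84),([55],[88],88),([56],[89],89),([60],[92],92),([61],[93],93),([64],[95],95),([65],[96],96),([67],[97],97),([68],[98],98)]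
    [[0,1],[],[],[],[],[1],[],[0,2,35],[3,18],[4,24],[5,27],[6,28],[7],[8],[9,31],[10,32],[11],[12],[13,33],[14],[15],[16],[17],[3],[19,34],[20],[21],[22],[23],[4],[25],[26],[5],[6],[29],[30],[9],[10],[13],[19],[1,2],[36],[37],[38],[39],[],[40],[41],[],[],[42],[43],[],[],[],[44],[45],[],[],[],[46],[47],[],[],[48],[49],[],[50],[51],[],[],[],[],[],[],[],[],[],[],[],[],[],[],[],[],[],[],[],[],[],[],[],[],[],[],[],[],[],[],[],[3],[4],[5],[6],[],[],[9],[10],[],[],[13],[],[],[],[],[],[19],[],[],[],[],[],[],[],[],[],[],[],[],[],[],[],[]] = true := by decide +kernel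

theorem rank2_ok : rankChk Data.E7.tab.col 133 [87,92,125]
    [([0,5],[132],132),([3],[94],94),([3,5],[99],99),([0,3,5,7,45],[1,6],6),([38],[130],130),([39],[131],131),([32],[124],124),([33],[125],125),([30],[122],122),([31],[123],123),([36],[128],128),([37],[129],129),([34],[126],126),([35],[127],127),([23,38],[38,115],115),([19],[111],111),([20],[112],112),([21],[113],113),([22],[114],114),([18,38],[38,110],110),([29,39],[39,121],121),([25],[117],117),([26],[118],118),([27],[119],119),([28],[120],120),([24,39],[39,116],116),([12,30],[30,104],104),([13,31],[31,105],105),([10,32],[32,102],102),([11,33],[33,103],103),([16,34],[34,108],108),([17,35],[35,109],109),([14,36],[36,106],106),([15,37],[37,107],107),([8,18,23,38],[18,23,38,100],100),([9,24,29,39],[24,29,39,101],101),([0,3,7,40],[1,4],4),([64],[95],95),([65],[96],96),([67],[97],97),([68],[98],98),([0,7,40,45],[2],2),([46],[78],78),([47],[79],79),([48],[76],76),([49],[77],77),([50],[83],83),([51],[84],84),([52],[81],81),([53],[82],82),([55],[88],88),([56],[89],89),([57],[86],86),([58],[87],87),([60],[92],92),([61],[93],93),([62],[90],90),([63],[91],91),([41,64],[64,71],71),([42,65],[65,72],72),([43,67],[67,74],74),([44,68],[68,75],75)]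
    [[0,1,2],[],[],[1],[],[1,2],[],[0,3,36,41],[4,14,19,34],[5,20,25,35],[6,28],[7,29],[8,26],[9,27],[10,32],[11,33],[12,30],[13,31],[4,19],[15],[16],[17],[18],[4,14],[5,25],[21],[22],[23],[24],[5,20],[8],[9],[6],[7],[12],[13],[10],[11],[4],[5],[2,3,41],[37,58],[38,59],[39,60],[40,61],[1,36,41],[42],[43],[44],[45],[46],[47],[48],[49],[],[50],[51],[52],[53],[],[54],[55],[56],[57],[37],[38],[],[39],[40],[],[],[37],[38],[],[39],[40],[],[],[],[],[],[],[],[],[],[],[],[],[],[],[],[],[],[],[],[],[],[],[],[],[4,14,19],[5,20,25],[6],[7],[8],[9],[10],[11],[12],[13],[4],[],[],[],[],[4],[5],[],[],[],[],[5],[],[],[],[],[],[],[],[],[],[],[]] = true := by decide +kernel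

theorem rank3_ok : rankChk Data.E7.tab.col 133 [78,87,92]
    [([0,3,54],[1,99],99),([3,54],[1,94],94),([18],[38],38),([24],[39],39),([14],[36],36),([15],[37],37),([16],[34],34),([17],[35],35),([10,14],[14,32],32),([11,15],[15,33],33),([12,16],[16,30],30),([13,17],[17,31],31),([8,18],[18,23],23),([9,24],[24,29],29),([54],[1,85],85),([64],[95],95),([65],[96],96),([67],[97],97),([68],[98],98),([0,3,40,54],[2,6],6),([55],[88],88),([56],[89],89),([57],[86],86),([58],[87],87),([60],[92],92),([61],[93],93),([62],[90],90),([63],[91],91),([3,45,54],[2,4],4),([46,55],[55,78],78),([47,56],[56,79],79),([48,57],[57,76],76),([49,58],[58,77],77),([50,60],[60,83],83),([51,61],[61,84],84),([52,62],[62,81],81),([53,63],[63,82],82),([41,64],[64,71],71),([42,65],[65,72],72),([43,67],[67,74],74),([44,68],[68,75],75),([110],[130],130),([116],[131],131),([106],[128],128),([107],[129],129),([108],[126],126),([109],[127],127),([102,106],[106,124],124),([103,107],[107,125],125),([104,108],[108,122],122),([105,109],[109,123],123),([100,110],[110,115],115),([101,116],[116,121],121)]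
    [[0,1],[],[],[1,14],[],[0,1],[],[],[2,12],[3,13],[4,8],[5,9],[6,10],[7,11],[4],[5],[6],[7],[2],[],[],[],[],[2],[3],[],[],[],[],[3],[6],[7],[4],[5],[],[],[],[],[],[],[0,19],[15,37],[16,38],[17,39],[18,40],[1,28],[20,29],[21,30],[22,31],[23,32],[24,33],[25,34],[26,35],[27,36],[14],[20],[21],[22],[23],[],[24],[25],[26],[27],[15],[16],[],[17],[18],[],[],[15],[16],[],[17],[18],[22],[23],[20],[21],[],[26],[27],[24],[25],[],[],[],[],[],[],[],[],[],[],[],[],[],[],[],[41,51],[42,52],[43,47],[44,48],[45,49],[46,50],[43],[44],[45],[46],[41],[],[],[],[],[41],[42],[],[],[],[],[42],[45],[46],[43],[44],[],[],[],[],[],[],[]] = true := by decide +kernel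

theorem rank4_ok : rankChk Data.E7.tab.col 133 [78,87,92,125]
    [([0,5],[132],132),([3,54],[1,94],94),([3,5,54],[1,99],99),([0,3,5,7,45,54],[6],6),([38],[130],130),([39],[131],131),([36],[128],128),([37],[129],129),([34],[126],126),([35],[127],127),([32,36],[36,124],124),([33,37],[37,125],125),([30,34],[34,122],122),([31,35],[35,123],123),([23,38],[38,115],115),([19],[111],111),([20],[112],112),([21],[113],113),([22],[114],114),([18,38],[38,110],110),([29,39],[39,121],121),([25],[117],117),([26],[118],118),([27],[119],119),([28],[120],120),([24,39],[39,116],116),([16,34],[34,108],108),([17,35],[35,109],109),([14,36],[36,106],106),([15,37],[37,107],107),([12,16,30,34],[16,30,34,104],104),([13,17,31,35],[17,31,35,105],105),([10,14,32,36],[14,32,36,102],102),([11,15,33,37],[15,33,37,103],103),([8,18,23,38],[18,23,38,100],100),([9,24,29,39],[24,29,39,101],101),([54],[1,85],85),([64],[95],95),([65],[96],96),([67],[97],97),([68],[98],98),([0,7,40,45],[2],2),([55],[88],88),([56],[89],89),([57],[86],86),([58],[87],87),([60],[92],92),([61],[93],93),([62],[90],90),([63],[91],91),([0,3,7,40,54],[4],4),([46,55],[55,78],78),([47,56],[56,79],79),([48,57],[57,76],76),([49,58],[58,77],77),([50,60],[60,83],83),([51,61],[61,84],84),([52,62],[62,81],81),([53,63],[63,82],82),([41,64],[64,71],71),([42,65],[65,72],72),([43,67],[67,74],74),([44,68],[68,75],75)]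
    [[0,1,2],[],[],[1,36],[],[1,2],[],[0,3,41,50],[4,14,19,34],[5,20,25,35],[6,10,28,32],[7,11,29,33],[8,12,26,30],[9,13,27,31],[6,28],[7,29],[8,26],[9,27],[4,19],[15],[16],[17],[18],[4,14],[5,25],[21],[22],[23],[24],[5,20],[8,12],[9,13],[6,10],[7,11],[8],[9],[6],[7],[4],[5],[2,3,41],[37,59],[38,60],[39,61],[40,62],[1,41,50],[42,51],[43,52],[44,53],[45,54],[46,55],[47,56],[48,57],[49,58],[36],[42],[43],[44],[45],[],[46],[47],[48],[49],[37],[38],[],[39],[40],[],[],[37],[38],[],[39],[40],[44],[45],[42],[43],[],[48],[49],[46],[47],[],[],[],[],[],[],[],[],[],[],[],[],[],[],[],[4,14,19],[5,20,25],[6,10,28],[7,11,29],[8,12,26],[9,13,27],[6],[7],[8],[9],[4],[],[],[],[],[4],[5],[],[],[],[],[5],[8],[9],[6],[7],[],[],[],[],[],[],[]] = true := by decide +kernel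

end Cfsg.Agent.Chevalley.InvolCert.E7
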