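import Cfsg.Agent.Lib.Chevalley.InvolCert.Final
import Cfsg.Agent.Lib.Chevalley.InvolCert.E7.All
import Cfsg.Agent.Lib.Chevalley.InvolCert.E7.Ranks
import Cfsg.Agent.Lib.Chevalley.Types.OrderE7

/-! The classes of involutions of type E7 in characteristic two. -/

set_option autoImplicit false
set_option maxRecDepth 100000

namespace Cfsg.Agent.Chevalley.InvolCert.E7

open Cfsg.Lie Cfsg.Agent.Chevalley Cfsg.Agent.Chevalley.Group

variable {K : Type*} [Field K] [CharP K 2]

/-- The representatives, in the group. -/
noncomputable abbrev y (S : List ℕ) : GL chevE7.Idx K := rep sys Types.E7.certified S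

theorem classes_eq : classes = [[62], [29,62], [24,29,62], [15,24,29], [15,24,29,62]] := by decide +kernel

theorem sq0 : same sys (oneW [62] ++ oneW [62]) [] = true := by decide +kernel

theorem rank0 : (disp (y (K := K) [62])).rank = 34 :=
  rank_rep sys Types.E7.certified tbl_ok (n := 133) (S := [62]) rank0_ok (by decide +kernel)

theorem mem0 : y (K := K) [62] ∈ chevE7.group K ∧ orderOf (y (K := K) [62]) = 2 :=
  ⟨rep_mem sys Types.E7.certified tbl_ok (by decide),
    order_two sys Types.E7.certified tbl_ok sq0 rank0 (by norm_num)⟩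

theorem sq1 : same sys (oneW [29,62] ++ oneW [29,62]) [] = true := by decide +kernel

theorem rank1 : (disp (y (K := K) [29,62])).rank = 52 :=
  rank_rep sys Types.E7.certified tbl_ok (n := 133) (S := [29,62]) rank1_ok (by decide +kernel)

theorem mem1 : y (K := K) [29,62] ∈ chevE7.group K ∧ orderOf (y (K := K) [29,62]) = 2 :=
  ⟨rep_mem sys Types.E7.certified tbl_ok (by decide),
    order_two sys Types.E7.certified tbl_ok sq1 rank1 (by norm_num)⟩

theorem sq2 : same sys (oneW [24,29,62] ++ oneW [24,29,62]) [] = true := by decide +kernel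

theorem rank2 : (disp (y (K := K) [24,29,62])).rank = 62 :=
  rank_rep sys Types.E7.certified tbl_ok (n := 133) (S := [24,29,62]) rank2_ok (by decide +kernel)

theorem mem2 : y (K := K) [24,29,62] ∈ chevE7.group K ∧ orderOf (y (K := K) [24,29,62]) = 2 :=
  ⟨rep_mem sys Types.E7.certified tbl_ok (by decide),
    order_two sys Types.E7.certified tbl_ok sq2 rank2 (by norm_num)⟩

theorem sq3 : same sys (oneW [15,24,29] ++ oneW [15,24,29]) [] = true := by decide +kernel

theorem rank3 : (disp (y (K := K) [15,24,29])).rank = 53 :=
  rank_rep sys Types.E7.certified tbl_ok (n := 133) (S := [15,24,29]) rank3_ok (by decide +kernel)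

theorem mem3 : y (K := K) [15,24,29] ∈ chevE7.group K ∧ orderOf (y (K := K) [15,24,29]) = 2 :=
  ⟨rep_mem sys Types.E7.certified tbl_ok (by decide),
    order_two sys Types.E7.certified tbl_ok sq3 rank3 (by norm_num)⟩

theorem sq4 : same sys (oneW [15,24,29,62] ++ oneW [15,24,29,62]) [] = true := by decide +kernel

theorem rank4 : (disp (y (K := K) [15,24,29,62])).rank = 63 :=
  rank_rep sys Types.E7.certified tbl_ok (n := 133) (S := [15,24,29,62]) rank4_ok (by decide +kernel)

theorem mem4 : y (K := K) [15,24,29,62] ∈ chevE7.group K ∧ orderOf (y (K := K) [15,24,29,62]) = 2 :=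
  ⟨rep_mem sys Types.E7.certified tbl_ok (by decide),
    order_two sys Types.E7.certified tbl_ok sq4 rank4 (by norm_num)⟩

theorem top_free : ∀ i < sys.N, fl 56713727820156410577229101238628035242 i = 2 := by decide +kernel

theorem ncard_involution_classes [Fintype K] :
    (ConjClasses.mk '' {g : chevE7.group K | orderOf g = 2}).ncard = 5 := by
  refine (ncard_classes (K := K) sys Types.E7.certified (classes := classes)
    (by decide +kernel) ?_ ?_ ?_).trans (congrArg List.length classes_eq)
  · intro S hS
    rw [classes_eq] at hS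
    simp only [List.mem_cons, List.not_mem_nil, or_false] at hS
    rcases hS with rfl | rfl | rfl | rfl | rfl
    exacts [mem0, mem1, mem2, mem3, mem4]
  · intro g hg h2
    exact exists_rep sys Types.E7.certified tbl_ok table_ok top_st (by norm_num) top_free chains_ok
      (exists_conj_U sys Types.E7.certified tbl_ok (Types.OrderE7.card_group K) (by decide)) hg h2
  · intro S hS S' hS' hc
    have hr : (disp (D := chevE7) (y (K := K) S)).rank = (disp (D := chevE7) (y (K := K) S')).rank :=
      rank_of_cj sys Types.E7.certified hc
    rw [classes_eq] at hS hS'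
    simp only [List.mem_cons, List.not_mem_nil, or_false] at hS hS'
    rcases hS with rfl | rfl | rfl | rfl | rfl <;> rcases hS' with rfl | rfl | rfl | rfl | rfl <;>
      first
        | rfl
        | (simp only [rank0, rank1, rank2, rank3, rank4] at hr; omega)

end Cfsg.Agent.Chevalley.InvolCert.E7
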